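import Cfsg.Agent.Lib.Geometric.SympType.Quad

/-!
A finite group `G` with a subgroup `N` normalising an elementary abelian subgroup indexed by a
quadratic space over `𝔽₂` and acting on it through the orthogonal group, with the sign of the
commutator of commuting elements: the data used for the global step.
-/

set_option autoImplicit false

namespace CfsgLib.Geometric.SympType

open Module

/-- The data: `x` embeds the quadratic space into `N`, `s` gives the action of `N`, `ε` is the sign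
of the commutator of commuting elements. -/
structure Data (k : ℕ) (G : Type*) [Group G] (N : Subgroup G) where
  x : (Fin (2 * k) → ZMod 2) → G
  q : (Fin (2 * k) → ZMod 2) → ZMod 2
  B : (Fin (2 * k) → ZMod 2) →ₗ[ZMod 2] (Fin (2 * k) → ZMod 2) →ₗ[ZMod 2] ZMod 2
  s : G → (Fin (2 * k) → ZMod 2) → (Fin (2 * k) → ZMod 2)
  ε : G → G → ZMod 2
  x_add : ∀ a b, x (a + b) = x a * x b
  x_inj : Function.Injective x
  x_mem : ∀ a, x a ∈ N
  conj : ∀ n ∈ N, ∀ v, n * x v * n⁻¹ = x (s n v)
  q_add : ∀ v w, q (v + w) = q v + q w + B v w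
  nondeg : ∀ v, (∀ w, B v w = 0) → v = 0
  ker : ∀ n ∈ N, (∀ v, s n v = v) → ∃ a, n = x a
  trans : ∀ a b, a ≠ 0 → b ≠ 0 → q a = 0 → q b = 0 → ∃ n ∈ N, s n a = b
  q_conj : ∀ (g : G) a b, g * x a * g⁻¹ = x b → q a = q b
  ε_x : ∀ a b, ε (x a) (x b) = B a b
  ε_conj : ∀ g p r, Commute p r → ε (g * p * g⁻¹) (g * r * g⁻¹) = ε p r
  ε_mul : ∀ p p' r, Commute p r → Commute p' r → ε (p * p') r = ε p r + ε p' r
  ε_fix : ∀ n ∈ N, n * n = 1 → ∀ v, ε n (x (v + s n v)) = B v (s n v)

namespace Data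

variable {k : ℕ} {G : Type*} [Group G] {N : Subgroup G} (D : Data k G N)

local notation "V" => Fin (2 * k) → ZMod 2

/-- The quadratic space of the data. -/
def quad : Quad k := ⟨D.q, D.B, D.q_add, D.nondeg⟩

/-- Centralisers of singular elements lie in `N`. -/
def LocalSing : Prop := ∀ a, a ≠ 0 → D.q a = 0 → ∀ g : G, Commute g (D.x a) → g ∈ N

theorem x_zero : D.x 0 = 1 := by
  have h := D.x_add 0 0
  rw [add_zero] at h
  exact mul_eq_left.1 h.symm

theorem x_eq_one {a : V} : D.x a = 1 ↔ a = 0 :=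
  ⟨fun h => D.x_inj (h.trans D.x_zero.symm), fun h => h ▸ D.x_zero⟩

theorem x_mul_self (a : V) : D.x a * D.x a = 1 := by
  rw [← D.x_add, vec_add_self, D.x_zero]

theorem x_inv (a : V) : (D.x a)⁻¹ = D.x a := inv_eq_of_mul_eq_one_right (D.x_mul_self a)

theorem x_commute (a b : V) : Commute (D.x a) (D.x b) := by
  rw [Commute, SemiconjBy, ← D.x_add, ← D.x_add, add_comm]

theorem orderOf_x {a : V} (ha : a ≠ 0) : orderOf (D.x a) = 2 :=
  orderOf_eq_prime (by rw [pow_two, D.x_mul_self]) fun h => ha (D.x_eq_one.1 h)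

theorem s_one (v : V) : D.s 1 v = v :=
  D.x_inj (by rw [← D.conj 1 (one_mem N)]; group)

theorem s_mul {n m : G} (hn : n ∈ N) (hm : m ∈ N) (v : V) : D.s (n * m) v = D.s n (D.s m v) :=
  D.x_inj (by rw [← D.conj _ (mul_mem hn hm), ← D.conj n hn, ← D.conj m hm]; group)

theorem s_add {n : G} (hn : n ∈ N) (v w : V) : D.s n (v + w) = D.s n v + D.s n w :=
  D.x_inj (by rw [D.x_add, ← D.conj n hn, ← D.conj n hn, ← D.conj n hn, D.x_add]; group)

theorem s_x (a v : V) : D.s (D.x a) v = v :=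
  D.x_inj (by rw [← D.conj _ (D.x_mem a), (D.x_commute a v).eq, mul_inv_cancel_right])

theorem commute_x_iff {n : G} (hn : n ∈ N) {v : V} : Commute n (D.x v) ↔ D.s n v = v := by
  constructor
  · intro h
    exact D.x_inj (by rw [← D.conj n hn, h.eq, mul_inv_cancel_right])
  · intro h
    have := D.conj n hn v
    rw [h, mul_inv_eq_iff_eq_mul] at this
    exact this

theorem inv_s {n : G} (hn : n ∈ N) (h2 : n * n = 1) (v : V) : D.s n (D.s n v) = v := by
  rw [← D.s_mul hn hn, h2, D.s_one]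

theorem sk (v w : V) : D.B v w = D.B w v := D.quad.sk v w

theorem q_zero : D.q 0 = 0 := D.quad.q_zero

theorem B_self (v : V) : D.B v v = 0 := D.quad.alt v

theorem q_s {n : G} (hn : n ∈ N) (v : V) : D.q (D.s n v) = D.q v :=
  (D.q_conj n v _ (D.conj n hn v)).symm

theorem B_s {n : G} (hn : n ∈ N) (v w : V) : D.B (D.s n v) (D.s n w) = D.B v w := by
  have h := D.q_add (D.s n v) (D.s n w)
  rw [← D.s_add hn, D.q_s hn, D.q_s hn, D.q_s hn, D.q_add] at h
  exact (add_left_cancel h).symm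

/-- The displacement `v ↦ v + s v`. -/
def η {n : G} (hn : n ∈ N) : V →ₗ[ZMod 2] V :=
  AddMonoidHom.toZModLinearMap 2 (AddMonoidHom.mk' (fun v => v + D.s n v) fun v w => by
    rw [D.s_add hn]; abel)

@[simp] theorem η_apply {n : G} (hn : n ∈ N) (v : V) : D.η hn v = v + D.s n v := rfl

/-- Fixed space. -/
def fix {n : G} (hn : n ∈ N) : Submodule (ZMod 2) V := LinearMap.ker (D.η hn)

theorem mem_fix {n : G} (hn : n ∈ N) {v : V} : v ∈ D.fix hn ↔ D.s n v = v := by
  rw [fix, LinearMap.mem_ker, η_apply, vec_add_eq_zero]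
  exact eq_comm

/-- Orthogonal space. -/
abbrev perp (W : Submodule (ZMod 2) V) : Submodule (ZMod 2) V := D.quad.perp W

theorem mem_perp {W : Submodule (ZMod 2) V} {v : V} : v ∈ D.perp W ↔ ∀ w ∈ W, D.B w v = 0 := Iff.rfl

theorem perp_le {U W : Submodule (ZMod 2) V} (h : U ≤ W) : D.perp W ≤ D.perp U :=
  fun _ hv w hw => hv w (h hw)

theorem perp_perp (W : Submodule (ZMod 2) V) : D.perp (D.perp W) = W := D.quad.perp_perp W

theorem finrank_perp (W : Submodule (ZMod 2) V) :
    finrank (ZMod 2) (D.perp W) = 2 * k - finrank (ZMod 2) W := D.quad.finrank_perp W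

theorem η_adj {n : G} (hn : n ∈ N) (h2 : n * n = 1) (v w : V) :
    D.B (D.η hn v) w = D.B v (D.η hn w) := by
  have e : D.B (D.s n v) w = D.B v (D.s n w) := by
    conv_lhs => rw [← D.B_s hn (D.s n v) w, D.inv_s hn h2]
  simp only [η_apply, map_add, LinearMap.add_apply, e]

theorem range_le_fix {n : G} (hn : n ∈ N) (h2 : n * n = 1) :
    LinearMap.range (D.η hn) ≤ D.fix hn := by
  rintro _ ⟨v, rfl⟩
  rw [mem_fix, η_apply, D.s_add hn, D.inv_s hn h2, add_comm]

theorem range_eq_perp_fix {n : G} (hn : n ∈ N) (h2 : n * n = 1) :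
    LinearMap.range (D.η hn) = D.perp (D.fix hn) := by
  refine Submodule.eq_of_le_of_finrank_eq ?_ ?_
  · rintro _ ⟨v, rfl⟩ w hw
    show D.B w (D.η hn v) = 0
    rw [← D.η_adj hn h2, LinearMap.mem_ker.1 hw]
    simp
  · rw [D.finrank_perp]
    have h := LinearMap.finrank_range_add_finrank_ker (D.η hn)
    rw [Module.finrank_fin_fun] at h
    change _ = 2 * k - finrank (ZMod 2) (LinearMap.ker (D.η hn))
    omega

theorem perp_fix_le {n : G} (hn : n ∈ N) (h2 : n * n = 1) : D.perp (D.fix hn) ≤ D.fix hn := by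
  rw [← D.range_eq_perp_fix hn h2]
  exact D.range_le_fix hn h2

theorem exists_one {a : V} (ha : a ≠ 0) : ∃ w, D.B a w = 1 := by
  by_contra h
  push Not at h
  exact ha (D.nondeg a fun w => (zmod2_cases _).resolve_right (h w))

/-- An anisotropic pair: two nonsingular vectors with nonsingular sum. -/
theorem B_eq_one {a b : V} (ha : D.q a = 1) (hb : D.q b = 1) (hab : D.q (a + b) = 1) :
    D.B a b = 1 := by
  rw [D.q_add, ha, hb] at hab
  rcases zmod2_cases (D.B a b) with h | h
  · rw [h] at hab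
    exact absurd hab (by decide)
  · exact h

end Data

end CfsgLib.Geometric.SympType
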